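/-
Overgroups of the orthogonal subgroup in coordinates for a hyperbolic rational frame: elements fixing a
rational isotropic point.
-/
import Mathlib

set_option autoImplicit false
set_option maxHeartbeats 400000
set_option linter.unusedSectionVars false

namespace CfsgLib.MaxSub.SU3Max.Orth

open Matrix

variable {F : Type*} [Field F] {σ : F →+* F} {K : Subgroup (GL (Fin 3) F)}

local notation "Mn" => Matrix (Fin 3) (Fin 3) F

/-- The Gram matrix of a hyperbolic frame. -/
def J : Matrix (Fin 3) (Fin 3) F := !![0, 0, 1; 0, 1, 0; 1, 0, 0]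

/-- The isometries of the coordinate form. -/
def Iso (σ : F →+* F) (A : Matrix (Fin 3) (Fin 3) F) : Prop := A.transpose * J * A.map σ = J

/-- Rational matrices. -/
def IsRat (σ : F →+* F) (A : Matrix (Fin 3) (Fin 3) F) : Prop := ∀ i j, σ (A i j) = A i j

/-- Scalar multiples of rational matrices. -/
def Sub (σ : F →+* F) (A : Matrix (Fin 3) (Fin 3) F) : Prop := ∃ l : F, l ≠ 0 ∧ IsRat σ (l • A)

/-- Matrices of members. -/
def In (K : Subgroup (GL (Fin 3) F)) (A : Matrix (Fin 3) (Fin 3) F) : Prop :=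
  ∃ g ∈ K, (g : Matrix (Fin 3) (Fin 3) F) = A

/-- The inverse of an isometry. -/
def inv' (σ : F →+* F) (A : Matrix (Fin 3) (Fin 3) F) : Matrix (Fin 3) (Fin 3) F :=
  J * (A.map σ).transpose * J

/-- The entries of the inverse. -/
theorem inv'_eq (σ : F →+* F) (A : Matrix (Fin 3) (Fin 3) F) : inv' σ A =
    !![σ (A 2 2), σ (A 1 2), σ (A 0 2); σ (A 2 1), σ (A 1 1), σ (A 0 1); σ (A 2 0), σ (A 1 0), σ (A 0 0)] := by
  ext i j
  fin_cases i <;> fin_cases j <;> (simp only [inv', Matrix.mul_apply, Fin.sum_univ_three]; simp [J])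

/-- The torus element. -/
def T (t : F) : Matrix (Fin 3) (Fin 3) F := Matrix.diagonal ![t, 1, t⁻¹]

/-- The unipotent isometries fixing the first vector. -/
def Vm (σ : F →+* F) (z y : F) : Matrix (Fin 3) (Fin 3) F := !![1, -σ z, y; 0, 1, z; 0, 0, 1]

/-- The rational unipotent element. -/
def U (x : F) : Matrix (Fin 3) (Fin 3) F := !![1, -x, -(x * x) / 2; 0, 1, x; 0, 0, 1]

/-- The rational Weyl element. -/
def W : Matrix (Fin 3) (Fin 3) F := !![0, 0, 1; 0, -1, 0; 1, 0, 0]

theorem mul3 (A B : Mn) (i j : Fin 3) : (A * B) i j = A i 0 * B 0 j + A i 1 * B 1 j + A i 2 * B 2 j := by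
  rw [Matrix.mul_apply, Fin.sum_univ_three]

theorem vec3 (A : Mn) (u : Fin 3 → F) (i : Fin 3) :
    (A *ᵥ u) i = A i 0 * u 0 + A i 1 * u 1 + A i 2 * u 2 := by
  simp [Matrix.mulVec, dotProduct, Fin.sum_univ_three]

theorem J_sq : (J : Mn) * J = 1 := by
  ext i j; fin_cases i <;> fin_cases j <;> simp [J, mul3]

theorem J_transpose : (J : Mn).transpose = J := by
  ext i j; fin_cases i <;> fin_cases j <;> simp [J]

theorem J_map (σ : F →+* F) : (J : Mn).map σ = J := by
  ext i j; fin_cases i <;> fin_cases j <;> simp [J]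

/-- The isometry equations. -/
theorem Iso.entries {A : Mn} (h : Iso σ A) (i j : Fin 3) :
    A 2 i * σ (A 0 j) + A 1 i * σ (A 1 j) + A 0 i * σ (A 2 j) = (J : Mn) i j := by
  have := congrFun (congrFun h i) j
  simp only [mul3, Matrix.transpose_apply, Matrix.map_apply] at this
  rw [← this]
  simp [J]

theorem iso_of_entries {A : Mn}
    (h : ∀ i j, A 2 i * σ (A 0 j) + A 1 i * σ (A 1 j) + A 0 i * σ (A 2 j) = (J : Mn) i j) : Iso σ A := by
  ext i j
  rw [← h i j]
  simp only [mul3, Matrix.transpose_apply, Matrix.map_apply]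
  simp [J]

theorem Iso.mul {A B : Mn} (hA : Iso σ A) (hB : Iso σ B) : Iso σ (A * B) := by
  show (A * B).transpose * J * (A * B).map σ = J
  rw [Matrix.transpose_mul, Matrix.map_mul,
    show B.transpose * A.transpose * J * (A.map σ * B.map σ) = B.transpose * (A.transpose * J * A.map σ) * B.map σ
      by simp only [mul_assoc], show A.transpose * J * A.map σ = J from hA]
  exact hB

theorem smul_iso {A : Mn} (hA : Iso σ A) {c : F} (hc : c * σ c = 1) : Iso σ (c • A) := by
  refine iso_of_entries fun i j => ?_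
  simp only [Matrix.smul_apply, smul_eq_mul, map_mul]
  rw [← hA.entries i j]
  linear_combination (A 2 i * σ (A 0 j) + A 1 i * σ (A 1 j) + A 0 i * σ (A 2 j)) * hc

theorem IsRat.mul {A B : Mn} (hA : IsRat σ A) (hB : IsRat σ B) : IsRat σ (A * B) := fun i j => by
  rw [mul3, map_add, map_add, map_mul, map_mul, map_mul, hA, hA, hA, hB, hB, hB]

theorem Sub.mul {A B : Mn} (hA : Sub σ A) (hB : Sub σ B) : Sub σ (A * B) := by
  obtain ⟨l, hl, hA⟩ := hA
  obtain ⟨k, hk, hB⟩ := hB
  refine ⟨l * k, mul_ne_zero hl hk, ?_⟩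
  rw [show (l * k) • (A * B) = (l • A) * (k • B) by rw [Matrix.smul_mul, Matrix.mul_smul, smul_smul]]
  exact hA.mul hB

theorem IsRat.sub {A : Mn} (hA : IsRat σ A) : Sub σ A := ⟨1, one_ne_zero, by rwa [one_smul]⟩

theorem isRat_one : IsRat σ (1 : Mn) := fun i j => by
  rw [Matrix.one_apply]; split <;> simp

theorem In.mul {A B : Mn} (hA : In K A) (hB : In K B) : In K (A * B) := by
  obtain ⟨g, hg, rfl⟩ := hA
  obtain ⟨k, hk, rfl⟩ := hB
  exact ⟨g * k, mul_mem hg hk, Units.val_mul g k⟩

theorem In.one : In K (1 : Mn) := ⟨1, one_mem _, rfl⟩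

/-- The hypotheses on an overgroup in coordinates. -/
structure Ov (σ : F →+* F) (K : Subgroup (GL (Fin 3) F)) : Prop where
  invol : ∀ x, σ (σ x) = x
  two : (2 : F) ≠ 0
  iso : ∀ A, In K A → Iso σ A
  det : ∀ A, In K A → A.det = 1
  rat : ∀ A : Matrix (Fin 3) (Fin 3) F, Iso σ A → A.det = 1 → IsRat σ A → In K A
  scalar : ∀ c : F, c ^ 3 = 1 → c * σ c = 1 → In K (c • (1 : Matrix (Fin 3) (Fin 3) F))
  notv : ∀ w : F, w ≠ 0 → ¬ In K (Vm σ 0 w)

variable (O : Ov σ K)
include O

theorem inv'_mul {A : Mn} (hA : Iso σ A) : inv' σ A * A = 1 := by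
  have h1 : (A.map σ).transpose * J * A = J := by
    have := congrArg (fun B : Mn => B.map σ) hA
    simp only [Matrix.map_mul, J_map, Matrix.map_map] at this
    rwa [show σ ∘ σ = id from funext O.invol, Matrix.map_id, Matrix.transpose_map] at this
  rw [inv', show J * (A.map σ).transpose * J * A = J * ((A.map σ).transpose * J * A) by simp only [mul_assoc],
    h1, J_sq]

theorem mul_inv' {A : Mn} (hA : Iso σ A) : A * inv' σ A = 1 := mul_eq_one_comm.1 (inv'_mul O hA)

theorem In.inv {A : Mn} (hA : In K A) : In K (inv' σ A) := by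
  have hI := O.iso A hA
  obtain ⟨g, hg, rfl⟩ := hA
  exact ⟨g⁻¹, inv_mem hg, (left_inv_eq_right_inv (inv'_mul O hI) (Units.mul_inv g)).symm⟩

theorem iso_U {x : F} (hx : σ x = x) : Iso σ (U x) := by
  have h2 := O.two
  refine iso_of_entries fun i j => ?_
  fin_cases i <;> fin_cases j <;> simp [U, J, hx, map_ofNat] <;> field_simp <;> ring

theorem rat_U {x : F} (hx : σ x = x) : IsRat σ (U x) := fun i j => by
  fin_cases i <;> fin_cases j <;> simp [U, hx, map_ofNat]

theorem in_U {x : F} (hx : σ x = x) : In K (U x) :=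
  O.rat _ (iso_U O hx) (by simp [U, Matrix.det_fin_three]) (rat_U O hx)

theorem in_T {t : F} (ht : σ t = t) (ht0 : t ≠ 0) : In K (T t) := by
  refine O.rat _ (iso_of_entries fun i j => ?_) ?_ fun i j => ?_
  · fin_cases i <;> fin_cases j <;> simp [T, J, ht, ht0]
  · simp [T, Matrix.det_diagonal, Fin.prod_univ_three, ht0]
  · fin_cases i <;> fin_cases j <;> simp [T, ht]

theorem in_W : In K (W : Mn) := by
  refine O.rat _ (iso_of_entries fun i j => ?_) ?_ fun i j => ?_
  · fin_cases i <;> fin_cases j <;> simp [W, J]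
  · simp [W, Matrix.det_fin_three]
  · fin_cases i <;> fin_cases j <;> simp [W]

theorem Vm_mul (z y z' y' : F) : Vm σ z y * Vm σ z' y' = Vm σ (z + z') (y + y' - σ z * z') := by
  ext i j
  fin_cases i <;> fin_cases j <;> simp [Vm, mul3] <;> ring

theorem U_eq {x : F} (hx : σ x = x) : U x = Vm σ x (-(x * x) / 2) := by rw [U, Vm, hx]

theorem Vm_zero : Vm σ (0 : F) 0 = 1 := by
  ext i j; fin_cases i <;> fin_cases j <;> simp [Vm]

theorem Vm_rel {z y : F} (h : In K (Vm σ z y)) : y + σ y + z * σ z = 0 := by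
  have := (O.iso _ h).entries 2 2
  simp [Vm, J] at this
  linear_combination this

/-- A member unipotent at the first vector is rational. -/
theorem unip {z y : F} (h : In K (Vm σ z y)) : σ z = z ∧ Vm σ z y = U z := by
  have h2 := O.two
  have hinv : In K (Vm σ (-z) (σ y)) := by
    convert In.inv O h using 1
    ext i j
    fin_cases i <;> fin_cases j <;> simp [Vm, inv'_eq, O.invol]
  have hz : σ z = z := by
    by_contra hne
    have h1 : σ (1 : F) = 1 := map_one σ
    have hm := ((h.mul (in_U O h1)).mul hinv).mul (in_U O (x := -1) (by rw [map_neg, h1]))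
    rw [U_eq O h1, U_eq O (show σ (-1 : F) = -1 by rw [map_neg, h1]), Vm_mul O, Vm_mul O, Vm_mul O] at hm
    rw [show z + 1 + -z + -1 = (0 : F) by ring] at hm
    refine O.notv _ ?_ hm
    have hy := Vm_rel O h
    simp only [map_add, map_neg, h1]
    intro h0
    refine hne ?_
    field_simp at h0
    refine mul_left_cancel₀ h2 ?_
    linear_combination -h0 + 2 * hy
  refine ⟨hz, ?_⟩
  have hm := h.mul (in_U O (x := -z) (by rw [map_neg, hz]))
  rw [U_eq O (show σ (-z) = -z by rw [map_neg, hz]), Vm_mul O, add_neg_cancel, hz] at hm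
  rw [U_eq O hz]
  congr 1
  by_contra hne
  refine O.notv _ ?_ hm
  intro h0
  refine hne ?_
  field_simp at h0 ⊢
  linear_combination h0

/-- Shape of a member fixing the first point. -/
theorem fix_point {A : Mn} (hA : In K A) (h10 : A 1 0 = 0) (h20 : A 2 0 = 0) :
    ∃ b a z : F, b ^ 3 = 1 ∧ b * σ b = 1 ∧ σ a = a ∧ a ≠ 0 ∧ σ z = z ∧ A = b • (T a * U z) := by
  have hI := O.iso A hA
  have hd := O.det A hA
  have e01 := hI.entries 0 1
  have e02 := hI.entries 0 2
  simp [J, h10, h20] at e01 e02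
  have ha0 : A 0 0 ≠ 0 := fun e => by rw [e, zero_mul] at e02; exact zero_ne_one e02
  have h21 : A 2 1 = 0 := e01.resolve_left ha0
  have e11 := hI.entries 1 1
  have e12 := hI.entries 1 2
  simp [J, h21] at e11 e12
  rw [Matrix.det_fin_three, h10, h20, h21] at hd
  obtain ⟨a, haa⟩ : ∃ a, A 0 0 = a := ⟨_, rfl⟩
  obtain ⟨b, hbb⟩ : ∃ b, A 1 1 = b := ⟨_, rfl⟩
  obtain ⟨d, hdd⟩ : ∃ d, A 2 2 = d := ⟨_, rfl⟩
  rw [haa] at ha0
  rw [haa, hdd] at e02
  rw [hbb] at e11
  rw [hdd, hbb] at e12
  rw [haa, hbb, hdd] at hd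
  have hd' : a * b * d = 1 := by linear_combination hd
  have hb0 : b ≠ 0 := fun e => by rw [e, mul_zero, zero_mul] at hd'; exact zero_ne_one hd'
  have hdeq : σ a * d = 1 := by
    have := congrArg σ e02
    rwa [map_mul, O.invol, map_one] at this
  have hab : a * b = σ a := by
    have hd0 : d ≠ 0 := right_ne_zero_of_mul_eq_one hdeq
    exact mul_right_cancel₀ hd0 (hd'.trans hdeq.symm)
  -- conjugate a rational unipotent
  have hconj := (hA.mul (in_U O (map_one σ))).mul (In.inv O hA)
  set α := b * σ a with hα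
  have hd0 : d ≠ 0 := right_ne_zero_of_mul_eq_one hdeq
  obtain ⟨y, hy⟩ : ∃ y, A * U 1 * inv' σ A = Vm σ α y := by
    set y₀ := (-a / 2 + A 0 1 + σ α * A 1 2) / d with hy₀
    have hy' : y₀ * d = -a / 2 + A 0 1 + σ α * A 1 2 := div_mul_cancel₀ _ hd0
    refine ⟨y₀, ?_⟩
    have key : A * U 1 = Vm σ α y₀ * A := by
      have k01 : σ α * b = a := by rw [hα, map_mul, O.invol]; linear_combination a * e11
      have k12 : α * d = b := by rw [hα]; linear_combination b * hdeq
      ext i j
      fin_cases i <;> fin_cases j <;> simp [Vm, U, mul3, h10, h20, h21, haa, hbb, hdd] <;>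
        first
          | ring1
          | linear_combination k01
          | linear_combination -k01
          | linear_combination k12
          | linear_combination -k12
          | linear_combination hy'
          | linear_combination -hy'
    rw [key, mul_assoc, mul_inv' O hI, mul_one]
  rw [hy] at hconj
  have hαr := (unip O hconj).1
  rw [hα, map_mul, O.invol] at hαr
  have hb3 : b ^ 3 = 1 := by
    have hσb : σ b * b = 1 := by linear_combination e11
    have h1 : a = b * b * σ a := by linear_combination b * hαr - a * hσb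
    have h2 : σ a * b ^ 3 = σ a := by linear_combination (-b) * h1 + hab
    exact mul_left_cancel₀ ((map_ne_zero σ).2 ha0) (by rw [mul_one]; exact h2)
  have hbi : b * σ b = 1 := by linear_combination e11
  have hζ : (b * b) ^ 3 = 1 ∧ (b * b) * σ (b * b) = 1 := by
    refine ⟨?_, ?_⟩
    · linear_combination (b ^ 3 + 1) * hb3
    · rw [map_mul]; linear_combination (b * σ b + 1) * hbi
  have hA' := (O.scalar _ hζ.1 hζ.2).mul hA
  rw [Matrix.smul_mul, one_mul] at hA'
  set a' := b * b * a with ha'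
  have hσb2 : σ b = b * b := by linear_combination (b * b) * hbi - σ b * hb3
  have hra : σ a' = a' := by
    rw [ha', map_mul, map_mul, hσb2, ← hab]
    linear_combination (b * b * a) * hb3
  have ha'0 : a' ≠ 0 := mul_ne_zero (mul_ne_zero hb0 hb0) ha0
  have hA'' := (in_T O (t := a'⁻¹) (by rw [map_inv₀, hra]) (inv_ne_zero ha'0)).mul hA'
  obtain ⟨z, y', hV⟩ : ∃ z y', T a'⁻¹ * ((b * b) • A) = Vm σ z y' := by
    refine ⟨(T a'⁻¹ * ((b * b) • A)) 1 2, (T a'⁻¹ * ((b * b) • A)) 0 2, ?_⟩
    set M := T a'⁻¹ * ((b * b) • A) with hM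
    have m00 : M 0 0 = 1 := by rw [hM]; simp [T, mul3, h10, h20, haa]; rw [ha']; field_simp
    have m11 : M 1 1 = 1 := by rw [hM]; simp [T, mul3, h21, hbb]; linear_combination hb3
    have m22 : M 2 2 = 1 := by
      rw [hM]; simp [T, mul3, hdd]; rw [ha']; linear_combination (b ^ 3) * hd' + hb3
    have m10 : M 1 0 = 0 := by rw [hM]; simp [T, mul3, h10, h20]
    have m20 : M 2 0 = 0 := by rw [hM]; simp [T, mul3, h10, h20]
    have m21 : M 2 1 = 0 := by rw [hM]; simp [T, mul3, h21]
    have e := (O.iso _ hA'').entries 1 2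
    rw [m21, m11, m22, map_one] at e
    simp [J] at e
    ext i j
    fin_cases i <;> fin_cases j <;> simp [Vm, m00, m11, m22, m10, m20, m21]
    linear_combination e
  rw [hV] at hA''
  obtain ⟨hzr, hVU⟩ := unip O hA''
  refine ⟨b, a', z, hb3, hbi, hra, ha'0, hzr, ?_⟩
  have hTT : T a' * T a'⁻¹ = (1 : Mn) := by
    rw [T, T, Matrix.diagonal_mul_diagonal, ← Matrix.diagonal_one]
    congr 1
    funext i
    fin_cases i <;> simp [ha'0]
  have h1 : (b * b) • A = T a' * U z := by
    rw [← hVU, ← hV, ← mul_assoc, hTT, one_mul]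
  rw [← h1, smul_smul, show b * (b * b) = 1 by linear_combination hb3, one_smul]

/-- A member fixing the first point is a scalar multiple of a rational matrix. -/
theorem sub_fix {A : Mn} (hA : In K A) (h10 : A 1 0 = 0) (h20 : A 2 0 = 0) : Sub σ A := by
  obtain ⟨b, a, z, hb, -, ha, -, hz, rfl⟩ := fix_point O hA h10 h20
  have hb0 : b ≠ 0 := fun e => by rw [e] at hb; simp at hb
  refine ⟨b⁻¹, inv_ne_zero hb0, ?_⟩
  rw [smul_smul, inv_mul_cancel₀ hb0, one_smul]
  refine IsRat.mul (fun i j => ?_) (rat_U O hz)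
  fin_cases i <;> fin_cases j <;> simp [T, ha]

end CfsgLib.MaxSub.SU3Max.Orth
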