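/-
The members commuting with the standard reflection.
-/
import Cfsg.Agent.Lib.MaxSub.SU3Max.Orth.J

set_option autoImplicit false
set_option maxHeartbeats 400000
set_option linter.unusedSectionVars false

namespace CfsgLib.MaxSub.SU3Max.Orth

open Matrix

variable {F : Type*} [Field F] {σ : F →+* F} {K : Subgroup (GL (Fin 3) F)}

local notation "Mn" => Matrix (Fin 3) (Fin 3) F

/-- A block matrix fixing the middle vector. -/
def blk (a B C d : F) : Matrix (Fin 3) (Fin 3) F := !![a, 0, B; 0, 1, 0; C, 0, d]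

/-- The properties of the fixed field that are used. -/
structure Fld (σ : F →+* F) : Prop where
  avoid : ∀ S : Finset F, S.card ≤ 6 → ∃ x, σ x = x ∧ x ∉ S
  sq : ∀ x y : F, σ x = x → σ y = y → x ≠ 0 → y ≠ 0 → (∀ l, σ l = l → l * l ≠ x) →
    (∀ l, σ l = l → l * l ≠ y) → ∃ l, σ l = l ∧ l * l = x * y

theorem T_eq (t : F) : T t = blk t 0 0 t⁻¹ := by
  ext i j; fin_cases i <;> fin_cases j <;> simp [T, blk]

theorem blk_mul (a B C d a' B' C' d' : F) :
    blk a B C d * blk a' B' C' d' = blk (a * a' + B * C') (a * B' + B * d') (C * a' + d * C') (C * B' + d * d') := by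
  ext i j; fin_cases i <;> fin_cases j <;> simp [blk, mul3]

theorem W_blk (a B C d : F) : W * blk a B C d * W = blk d C B a := by
  ext i j; fin_cases i <;> fin_cases j <;> simp [blk, W, mul3]

variable (O : Ov σ K)
include O

theorem blk_facts {a B C d : F} (h : In K (blk a B C d)) :
    σ a = a ∧ σ d = d ∧ σ B = -B ∧ σ C = -C ∧ a * d - B * C = 1 := by
  have hI := O.iso _ h
  have e00 := hI.entries 0 0
  have e02 := hI.entries 0 2
  have e20 := hI.entries 2 0
  have e22 := hI.entries 2 2
  have hd := O.det _ h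
  simp [blk, J] at e00 e02 e20 e22
  simp [blk, Matrix.det_fin_three] at hd
  refine ⟨?_, ?_, ?_, ?_, hd⟩
  · linear_combination (-σ a) * hd + a * e20 - B * e00
  · linear_combination (-σ d) * hd + d * e02 - C * e22
  · linear_combination (-σ B) * hd + a * e22 - B * e02
  · linear_combination (-σ C) * hd + d * e00 - C * e20

theorem blk_inv {a B C d : F} (h : In K (blk a B C d)) : In K (blk d (-B) (-C) a) := by
  obtain ⟨ha, hd, hB, hC, -⟩ := blk_facts O h
  convert In.inv O h using 1
  simp [blk, inv'_eq, ha, hd, hB, hC]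

theorem blk_lower {a B C d : F} (h : In K (blk a B C d)) (hC : C = 0) : B = 0 := by
  obtain ⟨b, t, z, -, -, -, ht, -, e⟩ := fix_point O h (by simp [blk]) (by simp [blk, hC])
  have e11 := congrFun (congrFun e 1) 1
  have e12 := congrFun (congrFun e 1) 2
  have e02 := congrFun (congrFun e 0) 2
  simp [blk, T, U] at e11 e12 e02
  rw [← e11, one_mul] at e02
  have hz : z = 0 := e12.resolve_left (by rw [← e11]; exact one_ne_zero)
  rw [e02, hz]; simp

theorem blk_upper {a B C d : F} (h : In K (blk a B C d)) (hB : B = 0) : C = 0 := by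
  have h' := ((in_W O).mul h).mul (in_W O)
  rw [W_blk] at h'
  exact blk_lower O h' hB

theorem blk_head {a B C d : F} (h : In K (blk a B C d)) : a ≠ 0 := fun ha => by
  obtain ⟨b, t, z, hb, -, -, -, -, e⟩ := fix_point O ((in_W O).mul h) (by simp [blk, W, mul3])
    (by simp [blk, W, mul3, ha])
  have e11 := congrFun (congrFun e 1) 1
  simp [blk, W, T, U, mul3] at e11
  rw [← e11] at hb
  exact O.two (by linear_combination -hb)

theorem blk_tail {a B C d : F} (h : In K (blk a B C d)) : d ≠ 0 := blk_head O (blk_inv O h)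

/-- The product of the entries off the diagonal is the same for all non-diagonal members. -/
theorem const (Φ : Fld σ) {a B C d a' B' C' d' : F} (h : In K (blk a B C d))
    (h' : In K (blk a' B' C' d')) (hC : C ≠ 0) (hC' : C' ≠ 0) : B' * C' = B * C := by
  obtain ⟨ha, hd, hB, hCs, hdet⟩ := blk_facts O h
  obtain ⟨ha', hd', hB', hCs', hdet'⟩ := blk_facts O h'
  have a0 := blk_head O h
  have d0 := blk_tail O h
  have a0' := blk_head O h'
  have B0 : B ≠ 0 := fun e => hC (blk_upper O h e)
  -- the products inverse times torus times the other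
  have key : ∀ {a' B' C' d' : F}, In K (blk a' B' C' d') → ∀ l : F, σ l = l → l ≠ 0 →
      l * l * (d * a') ≠ B * C' ∧ (l * l * (C * a') = a * C' → l * l * (d * B') = B * d') := by
    intro a' B' C' d' h' l hl hl0
    have hP := ((blk_inv O h).mul (in_T O hl hl0)).mul h'
    rw [T_eq, blk_mul, blk_mul] at hP
    refine ⟨fun e => blk_head O hP ?_, fun e => ?_⟩
    · field_simp
      linear_combination e
    · have hz := blk_lower O hP (by field_simp; linear_combination -e)
      field_simp at hz
      linear_combination hz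
  have x0 : B * C / (d * a) ≠ 0 := div_ne_zero (mul_ne_zero B0 hC) (mul_ne_zero d0 a0)
  have y0 : B * C' / (d * a') ≠ 0 := div_ne_zero (mul_ne_zero B0 hC') (mul_ne_zero d0 a0')
  have n1 : ∀ l, σ l = l → l * l ≠ B * C / (d * a) := fun l hl e => by
    refine (key h l hl (fun e0 => x0 (by rw [← e, e0, mul_zero]))).1 ?_
    rw [e, div_mul_cancel₀ _ (mul_ne_zero d0 a0)]
  have n2 : ∀ l, σ l = l → l * l ≠ B * C' / (d * a') := fun l hl e => by
    refine (key h' l hl (fun e0 => y0 (by rw [← e, e0, mul_zero]))).1 ?_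
    rw [e, div_mul_cancel₀ _ (mul_ne_zero d0 a0')]
  obtain ⟨m, hm, hm2⟩ := Φ.sq _ _ (by rw [map_div₀, map_mul, map_mul, hB, hCs, hd, ha]; ring)
    (by rw [map_div₀, map_mul, map_mul, hB, hCs', hd, ha']; ring) x0 y0 n1 n2
  set l := m * (d * a) / (B * C) with hl
  have hlr : σ l = l := by rw [hl, map_div₀, map_mul, map_mul, map_mul, hm, hd, ha, hB, hCs]; ring
  have hl1 : l * l * (C * a') = a * C' := by
    rw [hl, show m * (d * a) / (B * C) * (m * (d * a) / (B * C)) = m * m * ((d * a) / (B * C)) ^ 2 by ring, hm2]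
    field_simp
  have hl0 : l ≠ 0 := fun e => mul_ne_zero a0 hC' (by rw [← hl1, e]; ring)
  have h2 := (key h' l hlr hl0).2 hl1
  have hx : d * B' * (a * C') = B * d' * (C * a') := by
    refine mul_left_cancel₀ (mul_ne_zero hl0 hl0) ?_
    linear_combination (a * C') * h2 - (B * d') * hl1
  linear_combination hx + (B * C) * hdet' - (B' * C') * hdet

/-- A non-diagonal member determines the squares `(l - l⁻¹)²`. -/
theorem sq_const (Φ : Fld σ) {a B C d : F} (h : In K (blk a B C d)) (hC : C ≠ 0) {l : F} (hl : σ l = l)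
    (hl0 : l ≠ 0) (hl1 : l * l ≠ 1) : a * d * ((l - l⁻¹) * (l - l⁻¹)) = -1 := by
  have B0 : B ≠ 0 := fun e => hC (blk_upper O h e)
  have hP := (h.mul (in_T O hl hl0)).mul (blk_inv O h)
  rw [T_eq, blk_mul, blk_mul] at hP
  have hC1 : (C * l + d * 0) * d + (C * 0 + d * l⁻¹) * -C ≠ 0 := fun e => by
    have : C * d * (l - l⁻¹) = 0 := by linear_combination e
    rcases mul_eq_zero.1 this with e1 | e1
    · exact mul_ne_zero hC (blk_tail O h) e1
    · apply hl1
      field_simp at e1
      linear_combination e1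
  have e := const O Φ h hP hC hC1
  refine mul_left_cancel₀ (mul_ne_zero B0 hC) ?_
  linear_combination -e

end CfsgLib.MaxSub.SU3Max.Orth
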