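/-
Every member sends the isotropic rational point to a rational point.
-/
import Cfsg.Agent.Lib.MaxSub.SU3Max.Orth.Block

set_option autoImplicit false
set_option maxHeartbeats 800000
set_option linter.unusedSectionVars false

namespace CfsgLib.MaxSub.SU3Max.Orth

open Matrix

variable {F : Type*} [Field F] {σ : F →+* F} {K : Subgroup (GL (Fin 3) F)}

local notation "Mn" => Matrix (Fin 3) (Fin 3) F

/-- All members commuting with the standard reflection and the middle vector are diagonal. -/
def NoBlock (K : Subgroup (GL (Fin 3) F)) : Prop := ∀ a B C d : F, In K (blk a B C d) → C = 0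

/-- The rotation about `(p, 0, 1)`. -/
def Rot (p x y : F) : Matrix (Fin 3) (Fin 3) F :=
  !![(1 + x) / 2, y * p, p * (1 - x) / 2; y, x, -(p * y); (1 - x) / (2 * p), -y, (1 + x) / 2]

/-- The reflection with axis `(p, 0, 1)`. -/
def Refl (p : F) : Matrix (Fin 3) (Fin 3) F := !![0, 0, p; 0, -1, 0; p⁻¹, 0, 0]

variable (O : Ov σ K)
include O

theorem diag_of_big (Φ : Fld σ) (hav : ∀ S : Finset F, S.card ≤ 7 → ∃ x, σ x = x ∧ x ∉ S) :
    NoBlock K := by
  classical
  intro a B C d h
  by_contra hC
  obtain ⟨l, hl, hlS⟩ := hav {0, 1, -1} ((Finset.card_le_three).trans (by norm_num))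
  simp only [Finset.mem_insert, Finset.mem_singleton, not_or] at hlS
  obtain ⟨hl0, hl1, hlm⟩ := hlS
  have hll : l * l ≠ 1 := fun e => (mul_self_eq_one_iff.1 e).elim hl1 hlm
  obtain ⟨m, hm, hmS⟩ := hav {0, 1, -1, l, -l, l⁻¹, -l⁻¹} (by
    refine (Finset.card_insert_le _ _).trans (Nat.succ_le_succ ?_)
    exact Finset.card_le_six)
  simp only [Finset.mem_insert, Finset.mem_singleton, not_or] at hmS
  obtain ⟨hm0, hm1, hmm, hml, hmnl, hmi, hmni⟩ := hmS
  have hmm' : m * m ≠ 1 := fun e => (mul_self_eq_one_iff.1 e).elim hm1 hmm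
  have e := (sq_const O Φ h hC hl hl0 hll).trans (sq_const O Φ h hC hm hm0 hmm').symm
  have e' := mul_left_cancel₀ (mul_ne_zero (blk_head O h) (blk_tail O h)) e
  rcases mul_self_eq_mul_self_iff.1 e' with e1 | e1
  · rcases mul_eq_zero.1 (show (l - m) * (m * l + 1) = 0 by
      field_simp at e1; linear_combination e1) with e2 | e2
    · exact hml (by linear_combination -e2)
    · refine hmni ?_
      field_simp
      linear_combination e2
  · rcases mul_eq_zero.1 (show (l + m) * (m * l - 1) = 0 by
      field_simp at e1; linear_combination e1) with e2 | e2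
    · exact hmnl (by linear_combination e2)
    · refine hmi ?_
      field_simp
      linear_combination e2

/-- A member preserving the middle vector line is a multiple of a rational matrix. -/
theorem centre (Φ : Fld σ) (hnd : NoBlock K) {A : Mn} (hA : In K A) (h10 : A 1 0 = 0) (h12 : A 1 2 = 0)
    (h01 : A 0 1 = 0) (h21 : A 2 1 = 0) : Sub σ A := by
  classical
  by_cases hC : A 2 0 = 0
  · exact sub_fix O hA h10 hC
  by_cases hd : A 2 2 = 0
  · have hAW := hA.mul (in_W O)
    obtain ⟨l, hl, hs⟩ := sub_fix O hAW (by simp [mul3, W, h12]) (by simp [mul3, W, hd])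
    have := Sub.mul ⟨l, hl, hs⟩ (IsRat.sub (show IsRat σ (W : Mn) from fun i j => by
      fin_cases i <;> fin_cases j <;> simp [W]))
    rwa [mul_assoc, show (W : Mn) * W = 1 by ext i j; fin_cases i <;> fin_cases j <;> simp [W, mul3],
      mul_one] at this
  exfalso
  obtain ⟨l, hl, hlS⟩ := Φ.avoid {0, 1, -1} ((Finset.card_le_three).trans (by norm_num))
  simp only [Finset.mem_insert, Finset.mem_singleton, not_or] at hlS
  obtain ⟨hl0, hl1, hlm⟩ := hlS
  have hI := O.iso A hA
  have e00 := hI.entries 0 0
  have e11 := hI.entries 1 1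
  have e02 := hI.entries 0 2
  simp [J, h10, h01, h21] at e00 e11 e02
  have hN := (hA.mul (in_T O hl hl0)).mul (In.inv O hA)
  have heq : A * T l * inv' σ A = blk (A 0 0 * l * σ (A 2 2) + A 0 2 * l⁻¹ * σ (A 2 0))
      (A 0 0 * l * σ (A 0 2) + A 0 2 * l⁻¹ * σ (A 0 0))
      (A 2 0 * l * σ (A 2 2) + A 2 2 * l⁻¹ * σ (A 2 0))
      (A 2 0 * l * σ (A 0 2) + A 2 2 * l⁻¹ * σ (A 0 0)) := by
    ext i j
    fin_cases i <;> fin_cases j <;> simp [mul3, T, inv'_eq, blk, h10, h12, h01, h21]
    linear_combination e11
  rw [heq] at hN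
  have hC0 := hnd _ _ _ _ hN
  have hz : A 2 0 * σ (A 2 2) + A 2 2 * σ (A 2 0) = 0 := by
    have := mul_inv' O hI
    have := congrFun (congrFun this 2) 0
    simp [mul3, inv'_eq, h21] at this
    linear_combination this
  have h1 : A 2 0 * σ (A 2 2) * (l * l - 1) = 0 := by
    field_simp at hC0
    linear_combination hC0 - hz
  rcases mul_eq_zero.1 h1 with e | e
  · exact mul_ne_zero hC ((map_ne_zero σ).2 hd) e
  · exact (mul_self_eq_one_iff.1 (sub_eq_zero.1 e)).elim hl1 hlm

/-- Turning a pulled back reflection into the standard one. -/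
theorem conj_refl {A R : Mn} (hA : In K A) (hR : In K R) (hcol : ∀ k, (R * A) k 0 = -A k 0) :
    ∃ w, σ w = w ∧ R * (A * U w) = A * U w * T (-1) := by
  have hI := O.iso A hA
  have hM := (In.inv O hA).mul (hR.mul hA)
  have hcolM : ∀ i, (inv' σ A * (R * A)) i 0 = -(1 : Mn) i 0 := fun i => by
    rw [mul3, hcol, hcol, hcol, ← inv'_mul O hI, mul3]; ring
  obtain ⟨b, a, z, hb, hbσ, ha, ha0, hz, e⟩ := fix_point O hM (by rw [hcolM]; simp) (by rw [hcolM]; simp)
  have e00 := congrFun (congrFun e 0) 0
  rw [hcolM] at e00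
  simp [T, U, mul3] at e00
  have hbr : σ b = b := by
    have h1 := congrArg σ e00
    rw [map_neg, map_one, map_mul, ha] at h1
    exact mul_right_cancel₀ ha0 (by linear_combination e00 - h1)
  rw [hbr] at hbσ
  have hb1 : b = 1 := by linear_combination hb - b * hbσ
  have ha1 : a = -1 := by rw [hb1] at e00; linear_combination -e00
  rw [hb1, one_smul, ha1] at e
  refine ⟨-z / 2, by rw [map_div₀, map_neg, hz, map_ofNat], ?_⟩
  have h1 : R * A = A * (T (-1) * U z) := by rw [← e, ← mul_assoc A, mul_inv' O hI, one_mul]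
  rw [← mul_assoc R, h1, mul_assoc A, mul_assoc A]
  congr 1
  have h2 := O.two
  ext i j
  fin_cases i <;> fin_cases j <;> simp [T, U, mul3] <;> field_simp <;> ring

theorem U_neg {x : F} (hx : σ x = x) : U (-x) * U x = (1 : Mn) := by
  have h2 := O.two
  rw [U_eq O hx, U_eq O (show σ (-x) = -x by rw [map_neg, hx]), Vm_mul O, ← Vm_zero O (σ := σ)]
  congr 1
  · ring
  · rw [map_neg, hx]; field_simp; ring

/-- The image of the first vector orthogonal to the middle one. -/
theorem plus (Φ : Fld σ) (hnd : NoBlock K) {A : Mn} (hA : In K A) (h10 : A 1 0 = 0) : Sub σ A := by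
  have h2 := O.two
  obtain ⟨w, hw, he⟩ := conj_refl O hA (in_T O (t := -1) (by rw [map_neg, map_one]) (neg_ne_zero.2 one_ne_zero))
    (fun k => by fin_cases k <;> simp [T, mul3, h10])
  have hA' := hA.mul (in_U O hw)
  set A' := A * U w
  have e10 := congrFun (congrFun he 1) 0
  have e12 := congrFun (congrFun he 1) 2
  have e01 := congrFun (congrFun he 0) 1
  have e21 := congrFun (congrFun he 2) 1
  simp [T, mul3] at e10 e12 e01 e21
  have hs := centre O Φ hnd hA'
    ((mul_eq_zero.1 (show (2 : F) * A' 1 0 = 0 by linear_combination e10)).resolve_left h2)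
    ((mul_eq_zero.1 (show (2 : F) * A' 1 2 = 0 by linear_combination e12)).resolve_left h2)
    ((mul_eq_zero.1 (show (2 : F) * A' 0 1 = 0 by linear_combination -e01)).resolve_left h2)
    ((mul_eq_zero.1 (show (2 : F) * A' 2 1 = 0 by linear_combination -e21)).resolve_left h2)
  have := Sub.mul hs (IsRat.sub (rat_U O (show σ (-w) = -w by rw [map_neg, hw])))
  have h1 : U w * U (-w) = (1 : Mn) := mul_eq_one_comm.1 (U_neg O hw)
  rwa [show A' * U (-w) = A by show A * U w * U (-w) = A; rw [mul_assoc, h1, mul_one]] at this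

theorem in_Refl {p : F} (hp : σ p = p) (hp0 : p ≠ 0) : In K (Refl p) := by
  refine O.rat _ (iso_of_entries fun i j => ?_) ?_ fun i j => ?_
  · fin_cases i <;> fin_cases j <;> simp [Refl, J, hp, hp0]
  · simp [Refl, Matrix.det_fin_three, hp0]
  · fin_cases i <;> fin_cases j <;> simp [Refl, hp]

theorem in_Rot {p x y : F} (hp : σ p = p) (hp0 : p ≠ 0) (hx : σ x = x) (hy : σ y = y)
    (hr : x * x - 2 * p * (y * y) = 1) : In K (Rot p x y) := by
  have h2 := O.two
  refine O.rat _ (iso_of_entries fun i j => ?_) ?_ fun i j => ?_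
  · fin_cases i <;> fin_cases j <;> simp [Rot, J, hp, hx, hy, map_ofNat] <;> field_simp <;>
      first
        | ring1
        | linear_combination hr
        | linear_combination -hr
        | linear_combination (2 : F) * hr
        | linear_combination (-2 : F) * hr
        | linear_combination (4 : F) * hr
        | linear_combination (-4 : F) * hr
        | linear_combination p * hr
        | linear_combination (-p) * hr
        | linear_combination (2 * p) * hr
        | linear_combination (-2 * p) * hr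
        | linear_combination (p * p) * hr
        | linear_combination (-(p * p)) * hr
  · simp [Rot, Matrix.det_fin_three]
    field_simp
    first
      | linear_combination (2 * p) * hr
      | linear_combination (4 * p) * hr
      | linear_combination (8 * p) * hr
      | linear_combination p * hr
      | linear_combination hr
      | linear_combination (2 : F) * hr
      | linear_combination (4 : F) * hr
      | linear_combination (8 : F) * hr
  · fin_cases i <;> fin_cases j <;> simp [Rot, hp, hx, hy, map_ofNat]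

/-- The image of the first vector is not off the rational planes. -/
theorem minus (Φ : Fld σ) (hnd : NoBlock K) {A : Mn} (hA : In K A) {p β : F} (hv : A 2 0 ≠ 0)
    (h00 : A 0 0 = -p * A 2 0) (h10 : A 1 0 = β * A 2 0) (hp : σ p = p) (hp0 : p ≠ 0)
    (hβ : σ β ≠ β) (hn : β * σ β = 2 * p) : False := by
  classical
  have h2 := O.two
  obtain ⟨w, hw, he⟩ := conj_refl O hA (in_Refl O hp hp0) (fun k => by
    fin_cases k <;> simp [Refl, mul3, h00, h10]
    field_simp)
  have hA' := hA.mul (in_U O hw)
  set A' := A * U w with hA'd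
  clear_value A'
  -- a rotation
  obtain ⟨s, hs, hsS⟩ : ∃ s, σ s = s ∧ s ≠ 0 ∧ 2 * p * (s * s) ≠ 1 ∧ 2 * p * (s * s) ≠ -1 := by
    let S : Finset F := insert 0
      (((Polynomial.C (2 * p) * Polynomial.X ^ 2 - Polynomial.C 1).roots.toFinset) ∪
        (Polynomial.C (2 * p) * Polynomial.X ^ 2 - Polynomial.C (-1)).roots.toFinset)
    have hdeg : ∀ c : F, ((Polynomial.C (2 * p) * Polynomial.X ^ 2 - Polynomial.C c).roots.toFinset).card ≤ 2 :=
      fun c => ((Multiset.toFinset_card_le _).trans (Polynomial.card_roots' _)).trans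
        ((Polynomial.natDegree_sub_le _ _).trans (max_le (Polynomial.natDegree_C_mul_X_pow_le _ _) (by simp)))
    obtain ⟨s, hs, hsS⟩ := Φ.avoid S (by
      refine (Finset.card_insert_le _ _).trans ?_
      have := Finset.card_union_le ((Polynomial.C (2 * p) * Polynomial.X ^ 2 - Polynomial.C 1).roots.toFinset)
        ((Polynomial.C (2 * p) * Polynomial.X ^ 2 - Polynomial.C (-1)).roots.toFinset)
      have := hdeg 1
      have := hdeg (-1)
      omega)
    simp only [S, Finset.mem_insert, Finset.mem_union, Multiset.mem_toFinset, not_or] at hsS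
    have hne : ∀ c : F, Polynomial.C (2 * p) * Polynomial.X ^ 2 - Polynomial.C c ≠ 0 := fun c e => by
      have := congrArg (fun f : Polynomial F => f.coeff 2) e
      simp only [Polynomial.coeff_sub, Polynomial.coeff_C_mul, Polynomial.coeff_X_pow_self, Polynomial.coeff_C,
        Polynomial.coeff_zero, if_neg (show (2 : ℕ) ≠ 0 by norm_num)] at this
      exact mul_ne_zero h2 hp0 (by linear_combination this)
    refine ⟨s, hs, hsS.1, fun e => hsS.2.1 ?_, fun e => hsS.2.2 ?_⟩ <;>
      refine (Polynomial.mem_roots (hne _)).2 ?_ <;>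
      · simp
        linear_combination e
  obtain ⟨hs0, hs1, hs2⟩ := hsS
  have hd0 : 1 - 2 * p * (s * s) ≠ 0 := fun e => hs1 (by linear_combination -e)
  set x := (1 + 2 * p * (s * s)) / (1 - 2 * p * (s * s)) with hx
  set y := 2 * s / (1 - 2 * p * (s * s)) with hy
  have hxr : σ x = x := by simp [hx, hp, hs, map_ofNat]
  have hyr : σ y = y := by simp [hy, hp, hs, map_ofNat]
  have hrel : x * x - 2 * p * (y * y) = 1 := by
    rw [hx, hy, div_mul_div_comm, div_mul_div_comm, mul_div_assoc', ← sub_div,
      div_eq_one_iff_eq (mul_ne_zero hd0 hd0)]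
    ring
  have hN := ((In.inv O hA').mul (in_Rot O hp hp0 hxr hyr hrel)).mul hA'
  set N := inv' σ A' * Rot p x y * A' with hNd
  have hI := O.iso _ hA'
  have hTT : T (-1 : F) * T (-1) = 1 := by
    ext i j; fin_cases i <;> fin_cases j <;> simp [T, inv_neg]
  have hRR : Refl p * Refl p = (1 : Mn) := by
    ext i j; fin_cases i <;> fin_cases j <;> simp [Refl, mul3, hp0]
  have hRc : Refl p * Rot p x y = Rot p x y * Refl p := by
    ext i j
    fin_cases i <;> fin_cases j <;> simp [Refl, Rot, mul3] <;> field_simp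
  have hinvR : inv' σ A' * Refl p = T (-1) * inv' σ A' := by
    calc inv' σ A' * Refl p = inv' σ A' * Refl p * (A' * inv' σ A') := by rw [mul_inv' O hI, mul_one]
      _ = inv' σ A' * (Refl p * A') * inv' σ A' := by simp only [mul_assoc]
      _ = _ := by rw [he, ← mul_assoc, inv'_mul O hI, one_mul]
  have hcomm : N * T (-1) = T (-1) * N := by
    calc N * T (-1) = inv' σ A' * Rot p x y * (A' * T (-1)) := by rw [hNd, mul_assoc]
      _ = inv' σ A' * (Rot p x y * Refl p) * A' := by rw [← he]; simp only [mul_assoc]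
      _ = inv' σ A' * Refl p * (Rot p x y * A') := by rw [← hRc]; simp only [mul_assoc]
      _ = T (-1) * N := by rw [hinvR, hNd]; simp only [mul_assoc]
  have c10 := congrFun (congrFun hcomm 1) 0
  have c12 := congrFun (congrFun hcomm 1) 2
  have c01 := congrFun (congrFun hcomm 0) 1
  have c21 := congrFun (congrFun hcomm 2) 1
  simp [T, mul3] at c10 c12 c01 c21
  have n10 : N 1 0 = 0 := (mul_eq_zero.1 (show (2 : F) * N 1 0 = 0 by linear_combination -c10)).resolve_left h2
  have n12 : N 1 2 = 0 := (mul_eq_zero.1 (show (2 : F) * N 1 2 = 0 by linear_combination -c12)).resolve_left h2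
  have n01 : N 0 1 = 0 := (mul_eq_zero.1 (show (2 : F) * N 0 1 = 0 by linear_combination c01)).resolve_left h2
  have n21 : N 2 1 = 0 := (mul_eq_zero.1 (show (2 : F) * N 2 1 = 0 by linear_combination c21)).resolve_left h2
  obtain ⟨l, hl, hlr⟩ := centre O Φ hnd hN n10 n12 n01 n21
  have hNI := O.iso _ hN
  have i00 := hNI.entries 0 0
  have i02 := hNI.entries 0 2
  have i22 := hNI.entries 2 2
  simp [J, n10, n12] at i00 i02 i22
  have hσl : σ l ≠ 0 := (map_ne_zero σ).2 hl
  have r00 := hlr 0 0
  have r20 := hlr 2 0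
  have r02 := hlr 0 2
  have r22 := hlr 2 2
  simp only [Matrix.smul_apply, smul_eq_mul, map_mul] at r00 r20 r02 r22
  have hz : N 2 0 * (N 0 0 + N 2 2) = 0 := by
    have ha : N 2 0 * N 0 0 = 0 := by
      refine mul_left_cancel₀ (mul_ne_zero (mul_ne_zero h2 hl) hl) ?_
      linear_combination (l * σ l) * i00 - (l * N 2 0) * r00 - (l * N 0 0) * r20
    rcases mul_eq_zero.1 ha with e | e
    · rw [e, zero_mul]
    · rw [e, zero_add]
      have hd : N 0 2 * N 2 2 = 0 := by
        refine mul_left_cancel₀ (mul_ne_zero (mul_ne_zero h2 hl) hl) ?_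
        linear_combination (l * σ l) * i22 - (l * N 0 2) * r22 - (l * N 2 2) * r02
      rcases mul_eq_zero.1 hd with e1 | e1
      · rw [e, e1] at i02
        simp at i02
      · rw [e1, mul_zero]
  have hN2 : Rot p x y * Rot p x y * A' = A' * (N * N) := by
    rw [hNd]
    simp only [mul_assoc]
    rw [← mul_assoc A' (inv' σ A'), mul_inv' O hI, one_mul, ← mul_assoc A' (inv' σ A') (_ * _),
      mul_inv' O hI, one_mul]
  set X := x * x + 2 * p * (y * y)
  set Y := 2 * (x * y) with hY
  have hRot : Rot p x y * Rot p x y = Rot p X Y := by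
    ext i j
    fin_cases i <;> fin_cases j <;> simp [Rot, mul3, X, Y] <;> field_simp <;> ring
  rw [hRot] at hN2
  clear_value X
  set lam := N 0 0 * N 0 0 + N 0 2 * N 2 0
  have hNN : ∀ i, (A' * (N * N)) i 0 = lam * A' i 0 := fun i => by
    simp only [mul3, lam]
    rw [n10]
    linear_combination (A' i 1 * N 1 2 * 0) * hz + (A' i 2) * hz + (A' i 1 * N 2 0) * n12
  have a0 : A' 0 0 = -p * A 2 0 := by rw [hA'd, mul3, h00]; simp [U]
  have a1 : A' 1 0 = β * A 2 0 := by rw [hA'd, mul3, h10]; simp [U]
  have a2 : A' 2 0 = A 2 0 := by rw [hA'd, mul3]; simp [U]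
  have E1 := (congrFun (congrFun hN2 1) 0).trans (hNN 1)
  have E2 := (congrFun (congrFun hN2 2) 0).trans (hNN 2)
  clear_value Y
  rw [mul3, a0, a1, a2] at E1 E2
  simp [Rot] at E1 E2
  have e1 : X * β - 2 * p * Y = lam * β := mul_right_cancel₀ hv (by linear_combination E1)
  have e2 : X - Y * β = lam := by
    refine mul_right_cancel₀ hv ?_
    field_simp at E2
    apply mul_left_cancel₀ h2
    first
      | linear_combination E2
      | linear_combination (A 2 0) * E2
      | (apply mul_left_cancel₀ hp0; linear_combination E2)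
      | linear_combination (2 : F) * E2
  clear_value lam
  have hY0 : Y ≠ 0 := by
    rw [hY, hx, hy]
    refine mul_ne_zero h2 (mul_ne_zero (div_ne_zero ?_ hd0) (div_ne_zero (mul_ne_zero h2 hs0) hd0))
    exact fun e => hs2 (by linear_combination e)
  have hb0 : β ≠ 0 := fun e => hβ (by rw [e, map_zero])
  refine hβ (mul_left_cancel₀ hb0 (mul_left_cancel₀ hY0 ?_))
  linear_combination Y * hn - e1 + β * e2

/-- Every member is a multiple of a rational matrix. -/
theorem sub_of_mem (Φ : Fld σ) (hnd : NoBlock K) {A : Mn} (hA : In K A) : Sub σ A := by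
  have h2 := O.two
  have e00 := (O.iso A hA).entries 0 0
  simp [J] at e00
  by_cases hv : A 2 0 = 0
  · simp [hv] at e00
    exact sub_fix O hA e00 hv
  set α := A 0 0 / A 2 0 with hα
  set β := A 1 0 / A 2 0 with hβ
  have hrel : σ α + β * σ β + α = 0 := by
    have := (map_ne_zero σ).2 hv
    rw [hα, hβ, map_div₀, map_div₀]
    field_simp
    linear_combination e00
  clear_value α β
  have hback : ∀ y, σ y = y → Sub σ (U y * A) → Sub σ A := fun y hy h => by
    have := Sub.mul (IsRat.sub (rat_U O (show σ (-y) = -y by rw [map_neg, hy]))) h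
    rwa [← mul_assoc, U_neg O hy, one_mul] at this
  by_cases hb : σ β = β
  · have hr : σ (-β) = -β := by rw [map_neg, hb]
    refine hback _ hr (plus O Φ hnd ((in_U O hr).mul hA) ?_)
    simp [mul3, U]
    rw [hβ]; field_simp; ring
  exfalso
  have hb' : β - σ β ≠ 0 := fun e => hb (by linear_combination -e)
  set y := (α - σ α) / (β - σ β) with hy
  have hym : y * (β - σ β) = α - σ α := div_mul_cancel₀ _ hb'
  have hyr : σ y = y := by
    rw [hy, map_div₀, map_sub, map_sub, O.invol, O.invol, div_eq_div_iff (fun e => hb' (by linear_combination -e)) hb']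
    ring
  clear_value y
  set α' := α - y * β - y * y / 2 with hα'
  have hα'r : σ α' = α' := by
    rw [hα', map_sub, map_sub, map_mul, map_div₀, map_mul, hyr, map_ofNat]
    linear_combination hym
  have hn : (β + y) * σ (β + y) = 2 * -α' := by
    rw [map_add, hyr, hα']
    field_simp
    linear_combination hrel - hym
  have hα0 : α' ≠ 0 := fun e => by
    rw [e, neg_zero, mul_zero, mul_eq_zero, map_eq_zero, or_self] at hn
    exact hb (by rw [show β = -y by linear_combination hn, map_neg, hyr])
  refine minus O Φ hnd ((in_U O hyr).mul hA) (p := -α') (β := β + y) ?_ ?_ ?_ (by rw [map_neg, hα'r])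
    (neg_ne_zero.2 hα0) (fun e => hb (by rw [map_add, hyr] at e; exact add_right_cancel e)) hn
  · simpa [mul3, U] using hv
  · simp [mul3, U, hα']
    rw [hα, hβ]; field_simp; ring
  · simp [mul3, U]
    rw [hβ]; field_simp

end CfsgLib.MaxSub.SU3Max.Orth
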