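/-
The case of seven elements: no non-diagonal member commutes with the standard reflection.
-/
import Cfsg.Agent.Lib.MaxSub.SU3Max.Orth.Block

set_option autoImplicit false
set_option maxHeartbeats 800000
set_option linter.unusedSectionVars false

namespace CfsgLib.MaxSub.SU3Max.Orth

open Matrix

variable {F : Type*} [Field F] [CharP F 7] {σ : F →+* F} {K : Subgroup (GL (Fin 3) F)}

local notation "Mn" => Matrix (Fin 3) (Fin 3) F
local notation "M7" => Matrix (Fin 3) (Fin 3) (ZMod 7)
local notation "ι7" => ZMod.castHom (dvd_refl 7) F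

/-- A matrix from two matrices over the prime field. -/
def enc (κ : F) (P : Matrix (Fin 3) (Fin 3) (ZMod 7) × Matrix (Fin 3) (Fin 3) (ZMod 7)) :
    Matrix (Fin 3) (Fin 3) F := P.1.map ι7 + κ • P.2.map ι7

/-- Multiplication of encoded matrices. -/
def emul (P Q : Matrix (Fin 3) (Fin 3) (ZMod 7) × Matrix (Fin 3) (Fin 3) (ZMod 7)) :
    Matrix (Fin 3) (Fin 3) (ZMod 7) × Matrix (Fin 3) (Fin 3) (ZMod 7) :=
  (P.1 * Q.1 - P.2 * Q.2, P.1 * Q.2 + P.2 * Q.1)

theorem enc_mul {κ : F} (hκ : κ * κ = -1) (P Q : M7 × M7) : enc κ P * enc κ Q = enc κ (emul P Q) := by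
  ext i j
  simp only [enc, emul, Matrix.mul_apply, Fin.sum_univ_three, Matrix.add_apply, Matrix.sub_apply,
    Matrix.smul_apply, Matrix.map_apply, smul_eq_mul, map_add, map_sub, map_mul]
  linear_combination (ι7 (P.2 i 0) * ι7 (Q.2 0 j) + ι7 (P.2 i 1) * ι7 (Q.2 1 j) + ι7 (P.2 i 2) * ι7 (Q.2 2 j)) * hκ

theorem cast_fixed (n : ZMod 7) : σ (ι7 n) = ι7 n :=
  RingHom.congr_fun (Subsingleton.elim (σ.comp ι7) ι7) n

variable (O : Ov σ K)
include O

theorem enc_U (κ : F) (n : ZMod 7) :
    In K (enc κ (!![1, -n, -(4 * (n * n)); 0, 1, n; 0, 0, 1], 0)) := by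
  convert in_U O (cast_fixed (σ := σ) n) using 1
  have h2 : (4 : F) * 2 = 1 := by
    have := CharP.cast_eq_zero F 7
    push_cast at this
    linear_combination this
  ext i j
  fin_cases i <;> fin_cases j <;> simp [enc, U, map_ofNat, -ZMod.castHom_apply]
  rw [eq_div_iff O.two]
  linear_combination (-(ι7 n * ι7 n)) * h2

theorem enc_W (κ : F) : In K (enc κ ((!![0, 0, 1; 0, -1, 0; 1, 0, 0] : M7), 0)) := by
  convert in_W O using 1
  ext i j
  fin_cases i <;> fin_cases j <;> simp [enc, W]

/-- A witness fixing the first point and not rational. -/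
theorem no_word {κ : F} (hκ : κ * κ = -1) (hσ : σ κ = -κ) {P : M7 × M7} (hP : In K (enc κ P))
    (h1 : P.1 1 0 = 0 ∧ P.2 1 0 = 0 ∧ P.1 2 0 = 0 ∧ P.2 2 0 = 0) (j : Fin 3)
    (hne : P.2 0 j * P.1 0 0 - P.1 0 j * P.2 0 0 ≠ 0) : False := by
  obtain ⟨a1, a2, a3, a4⟩ := h1
  obtain ⟨l, hl, hr⟩ := sub_fix O hP (by simp [enc, a1, a2]) (by simp [enc, a3, a4])
  have r0 := hr 0 0
  have rj := hr 0 j
  simp only [Matrix.smul_apply, smul_eq_mul, enc, Matrix.add_apply, Matrix.map_apply, map_mul, map_add, hσ,
    cast_fixed] at r0 rj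
  have hκ0 : κ ≠ 0 := fun e => by simp [e] at hκ
  have e : l * σ l * (2 * κ * ι7 (P.2 0 j * P.1 0 0 - P.1 0 j * P.2 0 0)) = 0 := by
    rw [map_sub, map_mul, map_mul]
    linear_combination (l * (ι7 (P.1 0 j) + κ * ι7 (P.2 0 j))) * r0 - (l * (ι7 (P.1 0 0) + κ * ι7 (P.2 0 0))) * rj
  have hσl : σ l ≠ 0 := (map_ne_zero σ).2 hl
  simp only [mul_eq_zero, hl, hσl, O.two, hκ0, false_or] at e
  haveI : Fact (Nat.Prime 7) := ⟨by norm_num⟩
  exact hne ((map_eq_zero_iff _ (ι7).injective).1 e)

/-- The normalised exceptional member does not exist. -/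
theorem seven_core (b c : ZMod 7) (hbc : (b, c) = (1, 3) ∨ (b, c) = (3, 1)) {κ : F} (hκ : κ * κ = -1)
    (hσ : σ κ = -κ) (hg : In K (blk 1 (κ * ι7 b) (κ * ι7 c) 5)) : False := by
  have hgi := blk_inv O hg
  have eg : In K (enc κ ((!![1, 0, 0; 0, 1, 0; 0, 0, 5] : M7), !![0, 0, b; 0, 0, 0; c, 0, 0])) := by
    convert hg using 1
    ext i j
    fin_cases i <;> fin_cases j <;> simp [enc, blk, map_ofNat]
  have egi : In K (enc κ ((!![5, 0, 0; 0, 1, 0; 0, 0, 1] : M7), !![0, 0, -b; 0, 0, 0; -c, 0, 0])) := by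
    convert hgi using 1
    ext i j
    fin_cases i <;> fin_cases j <;> simp [enc, blk, map_ofNat]
  rcases hbc with e | e <;> simp only [Prod.mk.injEq] at e <;> obtain ⟨rfl, rfl⟩ := e
  · have hw := (((((enc_W O κ).mul (enc_U O κ 1)).mul eg).mul (enc_U O κ 3)).mul (enc_W O κ)).mul
      (enc_U O κ 1) |>.mul egi
    simp only [enc_mul hκ] at hw
    exact no_word O hκ hσ hw (by decide +kernel) 1 (by decide +kernel)
  · have hw := (((((enc_W O κ).mul (enc_U O κ 1)).mul eg).mul (enc_U O κ 2)).mul egi).mul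
      (enc_U O κ 2) |>.mul eg
    simp only [enc_mul hκ] at hw
    exact no_word O hκ hσ hw (by decide +kernel) 2 (by decide +kernel)

/-- No non-diagonal member over seven elements. -/
theorem seven (hcard : ∀ x : F, σ x = x → ∃ n : ZMod 7, ι7 n = x) {B C : F}
    (hg : In K (blk 1 B C 5)) (hBC : B * C = 4) : False := by
  obtain ⟨-, -, hB, hC, -⟩ := blk_facts O hg
  have h7 : (7 : F) = 0 := by exact_mod_cast CharP.cast_eq_zero F 7
  obtain ⟨n, hn⟩ := hcard (-(B * B)) (by rw [map_neg, map_mul, hB]; ring)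
  have hB0 : B ≠ 0 := fun e => by
    rw [e, zero_mul] at hBC
    exact mul_ne_zero O.two O.two (by linear_combination -hBC)
  have hnotsq : ∀ r : ZMod 7, ι7 (r * r) ≠ B * B := by
    intro r hr
    rw [map_mul] at hr
    have hr' := mul_self_eq_mul_self_iff.1 hr
    have : σ B = B := by
      rcases hr' with e | e
      · rw [← e, cast_fixed]
      · rw [show B = -ι7 r by linear_combination e, map_neg, cast_fixed]
    rw [hB] at this
    exact hB0 ((mul_eq_zero.1 (show (2 : F) * B = 0 by linear_combination -this)).resolve_left O.two)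
  have hn' : ∀ r : ZMod 7, n ≠ -(r * r) := fun r e => hnotsq r (by
    rw [e, map_neg] at hn; linear_combination -hn)
  have hcases : n = 1 ∨ n = 2 ∨ n = 4 := by
    revert hn'; clear hn; revert n; decide +kernel
  rcases hcases with rfl | rfl | rfl <;> simp only [map_one, map_ofNat] at hn
  · refine seven_core O 1 3 (Or.inl rfl) (κ := B) (by linear_combination hn) hB ?_
    convert hg using 2
    · simp
    · simp only [map_ofNat]
      refine mul_left_cancel₀ hB0 ?_
      first
        | linear_combination (3 : F) * hn - hBC - h7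
        | linear_combination (-3 : F) * hn + hBC + h7
        | linear_combination (3 : F) * hn - hBC - (2 : F) * h7
        | linear_combination (-3 : F) * hn + hBC + (2 : F) * h7
  · refine seven_core O 3 1 (Or.inr rfl) (κ := 5 * B) (by linear_combination (25 : F) * hn + (-7 : F) * h7)
      (by rw [map_mul, map_ofNat, hB]; ring) ?_
    convert hg using 2
    · simp only [map_ofNat]
      linear_combination (2 * B) * h7
    · simp only [map_one, mul_one]
      refine mul_left_cancel₀ hB0 ?_
      first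
        | linear_combination (5 : F) * hn - hBC - (2 : F) * h7
        | linear_combination (-5 : F) * hn + hBC + (2 : F) * h7
  · have h2σ : σ (2 : F) = 2 := map_ofNat σ 2
    have hP := ((in_T O h2σ O.two).mul hg).mul (in_T O (t := 2⁻¹) (by rw [map_inv₀, h2σ]) (inv_ne_zero O.two))
    rw [T_eq, T_eq, blk_mul, blk_mul] at hP
    have h4 : (4 : F) * 2 = 1 := by linear_combination h7
    have h2i : (2 : F)⁻¹ = 4 := inv_eq_of_mul_eq_one_left h4
    refine seven_core O 1 3 (Or.inl rfl) (κ := 4 * B) (by linear_combination (16 : F) * hn + (-9 : F) * h7)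
      (by rw [map_mul, map_ofNat, hB]; ring) ?_
    convert hP using 2
    all_goals try simp only [inv_inv]
    all_goals try simp only [map_one, map_ofNat, h2i]
    all_goals first
      | ring1
      | linear_combination h7
      | linear_combination -h7
      | linear_combination (5 : F) * h4
      | linear_combination (-5 : F) * h4
      | linear_combination -h4
      | linear_combination h4
      | linear_combination (B * 2) * h7
      | linear_combination (-(B * 2)) * h7
      | linear_combination (-(B * 0)) * h7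
      | linear_combination (-5 : F) * h7
      | linear_combination (5 : F) * h7
      | (refine mul_left_cancel₀ hB0 ?_; linear_combination (12 : F) * hn - (16 : F) * hBC - (16 : F) * h7)
      | (refine mul_left_cancel₀ hB0 ?_; linear_combination (-12 : F) * hn + (16 : F) * hBC + (16 : F) * h7)

end CfsgLib.MaxSub.SU3Max.Orth
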