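/-
The orthogonal subfield subgroups are maximal in `SU_3(q)`, `q` odd, `q ≥ 7`.
-/
import Cfsg.Agent.Lib.MaxSub.SU3Max.Orth.Point
import Cfsg.Agent.Lib.MaxSub.SU3Max.Orth.Seven
import Cfsg.Agent.Lib.MaxSub.SU3Max.Hess.Iso
import Cfsg.Agent.Lib.MaxSub.SLThree.Orth
import Cfsg.Agent.Lib.MaxSub.RationalTools
import Cfsg.Agent.Lib.Aschbacher.UnitaryProperGeneral

set_option autoImplicit false
set_option maxHeartbeats 800000
set_option linter.unusedSectionVars false

namespace CfsgLib.MaxSub.SU3Max.Orth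

open Matrix Cfsg Cfsg.Geo CfsgLib.UnitaryTransvection

variable {F : Type*} [Field F] [Fintype F] {q : ℕ} {hF : Fintype.card F = q ^ 2} {F₀ : Subfield F}
  {P : GL (Fin 3) F}

local notation "V" => Fin 3 → F
local notation "h" => Cfsg.hermForm 3 F q
local notation "σ" => frob hF
local notation "Mn" => Matrix (Fin 3) (Fin 3) F
local notation "GG" => Cfsg.GU 3 F q ⊓ specialLinear (Fin 3) F

include hF in
/-- The fixed field of the involution. -/
theorem mem_iff_fixed (hc : Fintype.card F = Nat.card F₀ ^ 2) (x : F) : x ∈ F₀ ↔ σ x = x := by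
  classical
  have hq : Nat.card F₀ = q := Nat.pow_left_injective two_ne_zero (hc.symm.trans hF)
  haveI : Fintype F₀ := Fintype.ofFinite _
  rw [frob_apply]
  refine ⟨fun hx => ?_, fun hx => CfsgLib.Aschbacher.mem_of_pow_card_eq (by rwa [hq])⟩
  have := congrArg Subtype.val (FiniteField.pow_card (⟨x, hx⟩ : F₀))
  rwa [← Nat.card_eq_fintype_card, hq] at this

include hF in
/-- A rational hyperbolic basis, up to a common scalar. -/
theorem exists_basis (h2 : (2 : F) ≠ 0) (hc : Fintype.card F = Nat.card F₀ ^ 2)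
    (hP : IsFormRationalStructure h F₀ 1 P) :
    ∃ (N : GL (Fin 3) F) (ν : F), ν ≠ 0 ∧ σ ν = ν ∧ IsRat σ (N : Mn) ∧
      ((P * N : GL (Fin 3) F) : Mn).transpose * ((P * N : GL (Fin 3) F) : Mn).map σ = ν • J := by
  classical
  haveI : Fintype F₀ := Fintype.ofFinite _
  let cv : (Fin 3 → F₀) → V := fun u i => (u i : F)
  have cvadd : ∀ u v, cv (u + v) = cv u + cv v := fun u v => funext fun i => rfl
  have cvsmul : ∀ (c : F₀) u, cv (c • u) = (c : F) • cv u := fun c u => funext fun i => rfl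
  have hmem : ∀ u v, h ((P : Mn) *ᵥ cv u) ((P : Mn) *ᵥ cv v) ∈ F₀ := fun u v => by
    simpa using hP (cv u) (cv v) (fun i => (u i).2) fun i => (v i).2
  let B : (Fin 3 → F₀) →ₗ[F₀] (Fin 3 → F₀) →ₗ[F₀] F₀ :=
    LinearMap.mk₂ F₀ (fun u v => ⟨h ((P : Mn) *ᵥ cv u) ((P : Mn) *ᵥ cv v), hmem u v⟩)
      (fun u u' v => Subtype.ext (by simp [cvadd, Matrix.mulVec_add, h_add_left]))
      (fun c u v => Subtype.ext (by simp [cvsmul, Matrix.mulVec_smul, h_smul_left]))
      (fun u v v' => Subtype.ext (by simp [cvadd, Matrix.mulVec_add, h_add_right hF]))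
      (fun c u v => Subtype.ext (by
        simp [cvsmul, Matrix.mulVec_smul, h_smul_right hF, (mem_iff_fixed (hF := hF) hc _).1 c.2]))
  have hsym : ∀ u v, B u v = B v u := fun u v => Subtype.ext (by
    show h ((P : Mn) *ᵥ cv u) ((P : Mn) *ᵥ cv v) = h ((P : Mn) *ᵥ cv v) ((P : Mn) *ᵥ cv u)
    rw [← h_swap hF ((P : Mn) *ᵥ cv v), (mem_iff_fixed (hF := hF) hc _).1 (hmem v u)])
  have h20 : (2 : F₀) ≠ 0 := fun e => h2 (by simpa [map_ofNat] using congrArg F₀.subtype e)
  set Q : QuadraticForm F₀ (Fin 3 → F₀) := LinearMap.BilinMap.toQuadraticMap B with hQ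
  have hpol : ∀ u v, QuadraticMap.polar Q u v = 2 * B u v := fun u v => by
    rw [hQ, LinearMap.BilinMap.polar_toQuadraticMap, hsym v u, two_mul]
  have hsep : ∀ u, (∀ v, B u v = 0) → u = 0 := fun u hu => by
    have hPu : (P : Mn) *ᵥ cv u = 0 := h_nondeg hF fun y => by
      have hy : y = (P : Mn) *ᵥ (((P⁻¹ : GL (Fin 3) F) : Mn) *ᵥ y) := by
        rw [Matrix.mulVec_mulVec, Units.mul_inv, Matrix.one_mulVec]
      rw [hy]
      set z := ((P⁻¹ : GL (Fin 3) F) : Mn) *ᵥ y
      rw [show z = z 0 • cv (Pi.single 0 1) + z 1 • cv (Pi.single 1 1) + z 2 • cv (Pi.single 2 1) by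
        funext i; fin_cases i <;> simp [cv]]
      have e : ∀ i, h ((P : Mn) *ᵥ cv u) ((P : Mn) *ᵥ cv (Pi.single i 1)) = 0 := fun i =>
        congrArg Subtype.val (hu (Pi.single i 1))
      simp only [Matrix.mulVec_add, Matrix.mulVec_smul, h_add_right hF, h_smul_right hF, e, mul_zero, add_zero]
    have := congrArg (((P⁻¹ : GL (Fin 3) F) : Mn) *ᵥ ·) hPu
    simp [Matrix.mulVec_mulVec] at this
    funext i
    exact Subtype.ext (congrFun this i)
  have hnd : (QuadraticMap.polarBilin Q).Nondegenerate := by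
    refine ⟨fun u hu => hsep u fun v => ?_, fun v hv => hsep v fun u => ?_⟩
    · have := hu v
      rw [QuadraticMap.polarBilin_apply_apply, hpol] at this
      exact (mul_eq_zero.1 this).resolve_left h20
    · have := hv u
      rw [QuadraticMap.polarBilin_apply_apply, hpol, hsym] at this
      exact (mul_eq_zero.1 this).resolve_left h20
  obtain ⟨P₀, μ, hμ, hP₀, hQP⟩ := SLThree.Orth3.exists_standard h20 hnd
  set N₀ : Matrix (Fin 3) (Fin 3) F₀ := P₀ * Matrix.diagonal ![1, 1, -2] with hN₀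
  have hd : N₀.det ≠ 0 := by
    rw [hN₀, Matrix.det_mul, Matrix.det_diagonal, Fin.prod_univ_three]
    refine mul_ne_zero ((Matrix.isUnit_iff_isUnit_det _).1 hP₀).ne_zero ?_
    simp [h20]
  set N : GL (Fin 3) F := Matrix.GeneralLinearGroup.map (F₀.subtype : F₀ →+* F)
    (Matrix.GeneralLinearGroup.mkOfDetNeZero N₀ hd) with hN
  have hNval : ∀ i j, (N : Mn) i j = (N₀ i j : F) := fun i j => rfl
  refine ⟨N, ((μ : F₀) : F), by exact_mod_cast hμ, (mem_iff_fixed (hF := hF) hc _).1 μ.2,
    fun i j => by rw [hNval]; exact (mem_iff_fixed (hF := hF) hc _).1 (N₀ i j).2, ?_⟩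
  have hb : ∀ x y : Fin 3 → F₀, 2 * B (P₀ *ᵥ x) (P₀ *ᵥ y) = μ * SLThree.Orth3.b0 x y := fun x y => by
    rw [← hpol, QuadraticMap.polar, ← Matrix.mulVec_add, hQP, hQP, hQP]
    simp [SLThree.Orth3.q0, SLThree.Orth3.b0]
    ring
  have hcol : ∀ j, (fun i => ((P * N : GL (Fin 3) F) : Mn) i j) =
      (P : Mn) *ᵥ cv (P₀ *ᵥ fun k => Matrix.diagonal ![1, 1, -2] k j) := fun j => by
    funext i
    rw [Units.val_mul, Matrix.mul_apply, Matrix.mulVec, dotProduct]
    refine Finset.sum_congr rfl fun k _ => ?_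
    rw [hNval]
    rfl
  ext i j
  have e : h (fun k => ((P * N : GL (Fin 3) F) : Mn) k i) (fun k => ((P * N : GL (Fin 3) F) : Mn) k j) =
      ((P * N : GL (Fin 3) F) : Mn).transpose.mulᵣ (((P * N : GL (Fin 3) F) : Mn).map σ) i j := by
    rw [Matrix.mulᵣ_eq, Matrix.mul_apply]
    exact Finset.sum_congr rfl fun k _ => by simp [frob_apply]
  rw [Matrix.mulᵣ_eq] at e
  rw [← e, hcol i, hcol j]
  have := congrArg Subtype.val (hb (fun k => Matrix.diagonal ![1, 1, -2] k i)
    (fun k => Matrix.diagonal ![1, 1, -2] k j))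
  simp only [Subfield.coe_mul] at this
  refine mul_left_cancel₀ h2 ?_
  refine Eq.trans ?_ (this.trans ?_)
  · rw [show ((2 : F₀) : F) = 2 from map_ofNat F₀.subtype 2]
    rfl
  · have c2 : ((2 : F₀) : F) = 2 := map_ofNat F₀.subtype 2
    fin_cases i <;> fin_cases j <;> simp [SLThree.Orth3.b0, J, c2] <;> ring

/-- The members of the fixed field. -/
theorem fld (h2 : (2 : F) ≠ 0) (hc : Fintype.card F = Nat.card F₀ ^ 2) (hq : 7 ≤ q) :
    Fld σ ∧ (8 ≤ q → ∀ S : Finset F, S.card ≤ 7 → ∃ x, σ x = x ∧ x ∉ S) := by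
  classical
  haveI : Fintype F₀ := Fintype.ofFinite _
  have hqc : Nat.card F₀ = q := Nat.pow_left_injective two_ne_zero (hc.symm.trans hF)
  have key : ∀ S : Finset F, S.card < q → ∃ x, σ x = x ∧ x ∉ S := fun S hS => by
    by_contra hall
    push Not at hall
    have : (Finset.univ : Finset F₀).map ⟨Subtype.val, Subtype.val_injective⟩ ⊆ S := fun x hx => by
      obtain ⟨y, -, rfl⟩ := Finset.mem_map.1 hx
      exact hall _ ((mem_iff_fixed (hF := hF) hc _).1 y.2)
    have := Finset.card_le_card this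
    rw [Finset.card_map, Finset.card_univ, ← Nat.card_eq_fintype_card, hqc] at this
    omega
  refine ⟨⟨fun S hS => key S (by omega), fun x y hx hy hx0 hy0 nx ny => ?_⟩, fun h8 S hS => key S (by omega)⟩
  let x' : F₀ := ⟨x, (mem_iff_fixed (hF := hF) hc _).2 hx⟩
  let y' : F₀ := ⟨y, (mem_iff_fixed (hF := hF) hc _).2 hy⟩
  have hchar : ringChar F₀ ≠ 2 := fun hc2 => by
    haveI : CharP F₀ 2 := ringChar.of_eq hc2
    exact h2 (by simpa [map_ofNat] using congrArg F₀.subtype (CharTwo.two_eq_zero (R := F₀)))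
  have ns : ∀ z : F₀, (∀ l, σ l = l → l * l ≠ (z : F)) → quadraticChar F₀ z = -1 := fun z hz =>
    quadraticChar_neg_one_iff_not_isSquare.2 fun ⟨r, hr⟩ =>
      hz r ((mem_iff_fixed (hF := hF) hc _).1 r.2) (by rw [hr]; rfl)
  have hxy : quadraticChar F₀ (x' * y') = 1 := by rw [map_mul, ns x' nx, ns y' ny]; rfl
  have hne : x' * y' ≠ 0 := mul_ne_zero (fun e => hx0 (congrArg Subtype.val e))
    (fun e => hy0 (congrArg Subtype.val e))
  obtain ⟨r, hr⟩ := (quadraticChar_one_iff_isSquare hne).1 hxy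
  exact ⟨r, (mem_iff_fixed (hF := hF) hc _).1 r.2, (congrArg Subtype.val hr).symm⟩

/-- Transport of coordinates. -/
theorem gram_iff {M g : GL (Fin 3) F} {ν : F} (hν : ν ≠ 0) (hνσ : σ ν = ν)
    (hM : (M : Mn).transpose * (M : Mn).map σ = ν • J) {A : Mn} (hA : (g : Mn) * (M : Mn) = (M : Mn) * A) :
    (g : Mn).transpose * (g : Mn).map σ = 1 ↔ Iso σ A := by
  have e : (M : Mn).transpose * ((g : Mn).transpose * (g : Mn).map σ) * (M : Mn).map σ =
      ν • (A.transpose * J * A.map σ) := by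
    calc (M : Mn).transpose * ((g : Mn).transpose * (g : Mn).map σ) * (M : Mn).map σ
        = ((g : Mn) * (M : Mn)).transpose * ((g : Mn) * (M : Mn)).map σ := by
          rw [Matrix.transpose_mul, Matrix.map_mul]; simp only [mul_assoc]
      _ = A.transpose * ((M : Mn).transpose * (M : Mn).map σ) * A.map σ := by
          rw [hA, Matrix.transpose_mul, Matrix.map_mul]; simp only [mul_assoc]
      _ = _ := by rw [hM, Matrix.mul_smul, Matrix.smul_mul]
  constructor
  · intro hg
    rw [hg, mul_one, hM] at e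
    exact (smul_right_injective _ hν e).symm
  · intro hI
    rw [show A.transpose * J * A.map σ = J from hI, ← hM] at e
    have u1 : IsUnit ((M : Mn).transpose) := Matrix.isUnit_transpose _ |>.2 M.isUnit
    have u2 : IsUnit ((M : Mn).map σ) := M.isUnit.map (σ).mapMatrix
    refine u1.mul_left_cancel (u2.mul_right_cancel ?_)
    rw [e, mul_one]

include hF in
/-- Orthogonal subfield subgroups are maximal in `SU_3(q)`. -/
theorem su3_orthogonal_maximal (hq : 7 ≤ q) (hodd : Odd q) (hc : Fintype.card F = Nat.card F₀ ^ 2)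
    (hP : IsFormRationalStructure h F₀ 1 P) :
    IsMaximalIn GG (subfieldSubgroup F₀ P ⊓ GG) := by
  classical
  refine ⟨lt_of_le_of_ne inf_le_right fun e => ?_, fun K hle hKG => ?_⟩
  · exact CfsgLib.Aschbacher.not_SU_le_subfield hF le_rfl Nat.prime_two hc P
      (show GG ≤ _ from e.ge.trans inf_le_left)
  have h2 : (2 : F) ≠ 0 := by
    obtain ⟨p, hp⟩ := CharP.exists F
    obtain ⟨n, hpp, hn⟩ := FiniteField.card F p
    intro e
    have hdvd : p ∣ 2 := (CharP.cast_eq_zero_iff F p 2).1 (by exact_mod_cast e)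
    have hp2 : p = 2 := (Nat.prime_dvd_prime_iff_eq hpp Nat.prime_two).1 hdvd
    have : 2 ∣ q := Nat.prime_two.dvd_of_dvd_pow (n := 2) (by
      rw [← hF, hn, hp2]; exact dvd_pow_self 2 n.pos.ne')
    exact Nat.not_even_iff_odd.2 hodd (even_iff_two_dvd.2 this)
  obtain ⟨N, ν, hν, hνσ, hNr, hM⟩ := exists_basis (hF := hF) h2 hc hP
  set M : GL (Fin 3) F := P * N with hMd
  set K' : Subgroup (GL (Fin 3) F) := K.map (MulAut.conj M⁻¹).toMonoidHom with hK'
  have hin : ∀ A, In K' A → ∃ g ∈ K, (g : Mn) * (M : Mn) = (M : Mn) * A ∧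
      (M⁻¹ * g * M : GL (Fin 3) F).1 = A := by
    rintro A ⟨g', ⟨g, hg, rfl⟩, rfl⟩
    refine ⟨g, hg, ?_, by simp⟩
    simp [← mul_assoc]
  have hin' : ∀ g ∈ K, ∀ A : Mn, (g : Mn) * (M : Mn) = (M : Mn) * A → In K' A := fun g hg A hA =>
    ⟨_, ⟨g, hg, rfl⟩, by
      simp [mul_assoc, hA, Units.inv_mul_cancel_left]⟩
  have hiso : ∀ {g : GL (Fin 3) F}, g ∈ GG → (g : Mn).transpose * (g : Mn).map σ = 1 := fun {g} hg => by
    ext i j
    rw [Matrix.mul_apply]
    have := hg.1 (Pi.single i 1) (Pi.single j 1)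
    simp only [Matrix.mulVec_single_one] at this
    calc ∑ k, (g : Mn).transpose i k * (g : Mn).map σ k j = h ((g : Mn).col i) ((g : Mn).col j) :=
          Finset.sum_congr rfl fun k _ => by simp [frob_apply]
      _ = h (Pi.single i 1) (Pi.single j 1) := this
      _ = _ := by
          rw [UnitaryOrder.herm_single_right hF]
          simp [Matrix.one_apply, Pi.single_apply, eq_comm]
  have hrat : ∀ A : Mn, Iso σ A → A.det = 1 → (∃ l : F, l ≠ 0 ∧ IsRat σ (l • A)) → In K' A := by
    intro A hA hd hr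
    let Au : GL (Fin 3) F := Matrix.GeneralLinearGroup.mkOfDetNeZero A (by rw [hd]; exact one_ne_zero)
    set g := M * Au * M⁻¹ with hgd
    have hgA : (g : Mn) * (M : Mn) = (M : Mn) * A := by
      rw [hgd, Units.val_mul, Units.val_mul, mul_assoc, Units.inv_mul, mul_one]; rfl
    have hgU : g ∈ GG := ⟨fun u v => CfsgLib.MaxSub.SU3Max.Hess.iso_of_gram (hF := hF)
        ((gram_iff hν hνσ hM hgA).2 hA) u v, MonoidHom.mem_ker.2 (Units.ext (by
      show (g : Mn).det = 1
      have := congrArg Matrix.det hgA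
      rw [Matrix.det_mul, Matrix.det_mul, hd, mul_one] at this
      exact mul_right_cancel₀ (Matrix.GeneralLinearGroup.det_ne_zero M) (this.trans (one_mul _).symm)))⟩
    obtain ⟨l, hl, hr⟩ := hr
    refine hin' g (hle ⟨?_, hgU⟩) A hgA
    refine CfsgLib.MaxSub.Rational.mem_of_entries (c := l⁻¹) (inv_ne_zero hl)
      (N := (N : Mn) * (l • A) * ((N⁻¹ : GL (Fin 3) F) : Mn)) (fun i j => (mem_iff_fixed (hF := hF) hc _).2 ?_) ?_
    · have hNi : IsRat σ ((N⁻¹ : GL (Fin 3) F) : Mn) := fun i j => by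
        have hN' : Matrix.GeneralLinearGroup.map (n := Fin 3) σ N = N := Units.ext (Matrix.ext fun i j => hNr i j)
        have : Matrix.GeneralLinearGroup.map (n := Fin 3) σ N⁻¹ = N⁻¹ := (map_inv _ N).trans (congrArg _ hN')
        exact congrArg (fun u : GL (Fin 3) F => (u : Mn) i j) this
      exact ((IsRat.mul hNr hr).mul hNi) i j
    · rw [Matrix.mul_smul, Matrix.smul_mul, smul_smul, inv_mul_cancel₀ hl, one_smul, hgd, hMd]
      simp only [Units.val_mul, _root_.mul_inv_rev, mul_assoc]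
      simp
      rfl
  by_cases htv : ∃ w, w ≠ 0 ∧ In K' (Vm σ 0 w)
  · -- a transvection gives everything
    right
    obtain ⟨w, hw0, hw⟩ := htv
    have tv_of : ∀ w, In K' (Vm σ 0 w) → w + σ w = 0 := fun w hw => by
      obtain ⟨g, hg, hgA, -⟩ := hin _ hw
      have := ((gram_iff hν hνσ hM hgA).1 (hiso (hKG hg))).entries 2 2
      simp [Vm, J] at this
      linear_combination this
    have hwσ : σ w = -w := eq_neg_of_add_eq_zero_right (tv_of w hw)
    have hTm : ∀ t : F, σ t = t → t ≠ 0 → In K' (T t) := fun t ht ht0 => by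
      refine hrat _ (iso_of_entries fun i j => ?_) ?_ ⟨1, one_ne_zero, fun i j => ?_⟩
      · fin_cases i <;> fin_cases j <;> simp [T, J, ht, ht0]
      · simp [T, Matrix.det_diagonal, Fin.prod_univ_three, ht0]
      · fin_cases i <;> fin_cases j <;> simp [T, ht]
    have hsc : ∀ t : F, σ t = t → In K' (Vm σ 0 (t * t * w)) := fun t ht => by
      by_cases ht0 : t = 0
      · convert In.one (K := K') using 1
        ext i j; fin_cases i <;> fin_cases j <;> simp [Vm, ht0]
      · convert ((hTm t ht ht0).mul hw).mul (hTm t⁻¹ (by rw [map_inv₀, ht]) (inv_ne_zero ht0)) using 1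
        ext i j
        fin_cases i <;> fin_cases j <;> simp [Vm, T, mul3, ht0]
        ring
    have hneg : ∀ a, In K' (Vm σ 0 a) → In K' (Vm σ 0 (-a)) := fun a ha => by
      obtain ⟨g, hg, hga⟩ := ha
      refine ⟨g⁻¹, inv_mem hg, (left_inv_eq_right_inv ?_ (Units.mul_inv g)).symm⟩
      rw [hga]
      ext i j; fin_cases i <;> fin_cases j <;> simp [Vm, mul3]
    have hall : ∀ c, c + σ c = 0 → In K' (Vm σ 0 c) := fun c hcs => by
      have hx : σ (c / w) = c / w := by
        rw [map_div₀, hwσ, eq_neg_of_add_eq_zero_right hcs, neg_div_neg_eq]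
      set x := c / w with hxd
      have h1 := (hsc ((x + 1) / 2) (by rw [map_div₀, map_add, hx, map_one, map_ofNat])).mul
        (hneg _ (hsc ((x - 1) / 2) (by rw [map_div₀, map_sub, hx, map_one, map_ofNat])))
      convert h1 using 1
      have hxw : c = x * w := (div_mul_cancel₀ _ hw0).symm
      ext i j
      fin_cases i <;> fin_cases j <;> simp [Vm, mul3]
      rw [hxw]; field_simp; ring
    set a : V := (M : Mn) *ᵥ Pi.single 0 1 with had
    set c₁ : V := (M : Mn) *ᵥ Pi.single 1 1 with hc₁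
    have hh : ∀ u v : V, h ((M : Mn) *ᵥ u) ((M : Mn) *ᵥ v) =
        ν * (u 0 * σ (v 2) + u 1 * σ (v 1) + u 2 * σ (v 0)) := fun u v => by
      have key : ∀ x y : V, h x y = x ⬝ᵥ (fun i => σ (y i)) := fun x y =>
        Finset.sum_congr rfl fun i _ => by simp only [frob_apply]
      rw [key, show (fun i => σ (((M : Mn) *ᵥ v) i)) = (M : Mn).map σ *ᵥ fun i => σ (v i) from
        funext fun i => RingHom.map_mulVec σ (M : Mn) v i, dotProduct_comm, Matrix.dotProduct_mulVec,
        dotProduct_comm, ← Matrix.mulVec_transpose, Matrix.mulVec_mulVec, hM]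
      simp [J, Matrix.mulVec, dotProduct, Fin.sum_univ_three]
      ring
    have haa : h a a = 0 := by simp only [had, hh]; simp
    have hA : Ctr hF K a := by
      intro g c hcs hg
      have hcν : c * ν + σ (c * ν) = 0 := by rw [map_mul, hνσ]; linear_combination ν * hcs
      obtain ⟨g', hg', hgA, -⟩ := hin _ (hall _ hcν)
      suffices g = g' by rw [this]; exact hg'
      refine Units.ext (Matrix.ext_of_mulVec_single fun j => ?_)
      set x : V := Pi.single j 1
      have hx : x = (M : Mn) *ᵥ (((M⁻¹ : GL (Fin 3) F) : Mn) *ᵥ x) := by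
        rw [Matrix.mulVec_mulVec, Units.mul_inv, Matrix.one_mulVec]
      rw [hg, tmat_mulVec, hx]
      generalize ((M⁻¹ : GL (Fin 3) F) : Mn) *ᵥ x = u
      conv_rhs => rw [Matrix.mulVec_mulVec, hgA, ← Matrix.mulVec_mulVec]
      rw [had, hh, show Vm σ 0 (c * ν) *ᵥ u = u + (c * ν * u 2) • Pi.single 0 1 by
        funext i; fin_cases i <;> simp [vec3, Vm], Matrix.mulVec_add, Matrix.mulVec_smul]
      congr 2
      simp
      ring
    have hWm : In K' (W : Mn) := by
      refine hrat _ (iso_of_entries fun i j => ?_) ?_ ⟨1, one_ne_zero, fun i j => ?_⟩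
      · fin_cases i <;> fin_cases j <;> simp [W, J]
      · simp [W, Matrix.det_fin_three]
      · fin_cases i <;> fin_cases j <;> simp [W]
    obtain ⟨k, hk, hkA, -⟩ := hin _ hWm
    have hA' := hA.conj hk (hKG hk)
    rw [had, Matrix.mulVec_mulVec, hkA, ← Matrix.mulVec_mulVec] at hA'
    have hUm : In K' (U 1 : Mn) := by
      refine hrat _ (iso_of_entries fun i j => ?_) ?_ ⟨1, one_ne_zero, fun i j => ?_⟩
      · fin_cases i <;> fin_cases j <;> simp [U, J, map_ofNat] <;> field_simp <;> ring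
      · simp [U, Matrix.det_fin_three]
      · fin_cases i <;> fin_cases j <;> simp [U, map_ofNat]
    obtain ⟨k', hk', hkA', -⟩ := hin _ hUm
    have hA'' := hA'.conj hk' (hKG hk')
    rw [Matrix.mulVec_mulVec, hkA', ← Matrix.mulVec_mulVec] at hA''
    refine le_antisymm hKG (top_of_line (c := c₁) (by omega) ?_ haa ?_ ?_ ?_ ?_ hA hA' ?_ ?_ hA'')
    all_goals simp only [had, hc₁, hh, vec3]
    all_goals simp [W, U, hν, map_ofNat]
    all_goals (try field_simp)
    all_goals (try ring1)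
  left
  push Not at htv
  have O : Ov σ K' :=
    { invol := frob_frob hF
      two := h2
      iso := fun A hA => by
        obtain ⟨g, hg, hgA, -⟩ := hin A hA
        exact (gram_iff hν hνσ hM hgA).1 (hiso (hKG hg))
      det := fun A hA => by
        obtain ⟨g, hg, -, hgA⟩ := hin A hA
        rw [← hgA, Units.val_mul, Units.val_mul, Matrix.det_units_conj']
        simpa using congrArg Units.val (MonoidHom.mem_ker.1 (hKG hg).2)
      rat := fun A hI hd hr => hrat A hI hd ⟨1, one_ne_zero, by rwa [one_smul]⟩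
      scalar := fun c hc3 hcn => hrat _ (smul_iso (iso_of_entries fun i j => by
          fin_cases i <;> fin_cases j <;> simp [J, Matrix.one_apply]) hcn) (by simpa [Matrix.det_smul] using hc3)
        ⟨c⁻¹, inv_ne_zero (fun e => by rw [e] at hc3; simp at hc3), by
          rw [smul_smul, inv_mul_cancel₀ (fun e => by rw [e] at hc3; simp at hc3), one_smul]
          exact isRat_one⟩
      notv := fun w hw => htv w hw }
  obtain ⟨Φ, hav⟩ := fld (hF := hF) h2 hc hq
  have hnd : NoBlock K' := by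
    by_cases h8 : 8 ≤ q
    · exact diag_of_big O Φ (hav h8)
    have hq7 : q = 7 := by omega
    haveI : Fact (Nat.Prime 7) := ⟨by norm_num⟩
    haveI hchar : CharP F 7 := by
      obtain ⟨p, hp⟩ := CharP.exists F
      obtain ⟨n, hpp, hn⟩ := FiniteField.card F p
      have : p = 7 := (Nat.prime_dvd_prime_iff_eq hpp (by norm_num)).1
        (hpp.dvd_of_dvd_pow (n := 2) (by rw [← hq7, ← hF, hn]; exact dvd_pow_self p n.pos.ne'))
      exact this ▸ hp
    intro a B C d hg
    by_contra hC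
    obtain ⟨ha, hd, hB, hCs, hdet⟩ := blk_facts O hg
    have ha0 := blk_head O hg
    have h7 : (7 : F) = 0 := by exact_mod_cast CharP.cast_eq_zero F 7
    have h3 : (3 : F) ≠ 0 := fun e => by
      have := (CharP.cast_eq_zero_iff F 7 3).1 (by exact_mod_cast e)
      norm_num at this
    have e := sq_const O Φ hg hC (l := 2) (map_ofNat σ 2) O.two (fun e => h3 (by linear_combination e))
    rw [show (2 : F)⁻¹ = 4 from inv_eq_of_mul_eq_one_left (by linear_combination h7)] at e
    have had : a * d = 5 := by linear_combination (2 : F) * e - (a * d + 1) * h7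
    have hg' := hg.mul (in_T O (t := a⁻¹) (by rw [map_inv₀, ha]) (inv_ne_zero ha0))
    rw [T_eq, blk_mul, inv_inv] at hg'
    simp only [mul_zero, add_zero, zero_add, mul_inv_cancel₀ ha0] at hg'
    rw [show d * a = 5 by rw [mul_comm]; exact had] at hg'
    refine seven O (fun x hx => ?_) hg' (by field_simp; linear_combination had - hdet)
    have hm : x ∈ (ZMod.castHom (dvd_refl 7) F).fieldRange :=
      bot_le (a := (ZMod.castHom (dvd_refl 7) F).fieldRange) ((Subfield.mem_bot_iff_pow_eq_self F 7).2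
        (by rwa [frob_apply, hq7] at hx))
    exact hm
  refine le_antisymm (fun m hm => ⟨?_, hKG hm⟩) hle
  set A : Mn := ((M⁻¹ * m * M : GL (Fin 3) F) : Mn)
  obtain ⟨l, hl, hr⟩ := sub_of_mem O Φ hnd (A := A) ⟨_, ⟨m, hm, rfl⟩, by simp [A]⟩
  refine CfsgLib.MaxSub.Rational.mem_of_entries (c := l⁻¹) (inv_ne_zero hl)
    (N := (N : Mn) * (l • A) * ((N⁻¹ : GL (Fin 3) F) : Mn)) (fun i j => (mem_iff_fixed (hF := hF) hc _).2 ?_) ?_
  · have hNi : IsRat σ ((N⁻¹ : GL (Fin 3) F) : Mn) := fun i j => by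
      have hN' : Matrix.GeneralLinearGroup.map (n := Fin 3) σ N = N := Units.ext (Matrix.ext fun i j => hNr i j)
      have : Matrix.GeneralLinearGroup.map (n := Fin 3) σ N⁻¹ = N⁻¹ := (map_inv _ N).trans (congrArg _ hN')
      exact congrArg (fun u : GL (Fin 3) F => (u : Mn) i j) this
    exact ((IsRat.mul hNr hr).mul hNi) i j
  · simp only [A, Matrix.mul_smul, Matrix.smul_mul, smul_smul, inv_mul_cancel₀ hl, one_smul, hMd,
      Units.val_mul, _root_.mul_inv_rev, mul_assoc]
    simp

end CfsgLib.MaxSub.SU3Max.Orth
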